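import Cfsg.Agent.H66.TwESixCover
import Cfsg.Agent.H66.SchurParts
import Cfsg.Agent.H59.CrossTw
import Cfsg.Agent.H59.ESixCover
import Cfsg.Agent.H59.ESixField

/-!
# The Schur multiplier of `²E₆(2)` is `3 × 2 × 2`
-/

set_option autoImplicit false

namespace Cfsg.Agent.H66.TwESixMult

open Subgroup Function Cfsg.Lie
open Cfsg.Agent.H51.Mult

/-- A group of order 4 of exponent 2. -/
theorem klein {A : Type*} [Group A] (h4 : Nat.card A = 4) (h2 : ∀ a : A, a * a = 1) :
    Nonempty (A ≃* Multiplicative (ZMod 2 × ZMod 2)) := by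
  have : Finite A := Nat.finite_of_card_ne_zero (by rw [h4]; norm_num)
  have : Nontrivial A := Finite.one_lt_card_iff_nontrivial.1 (by rw [h4]; norm_num)
  have h5 : IsKleinFour A := ⟨h4, by
    rw [Monoid.exponent_eq_prime_iff Nat.prime_two]
    intro g hg
    exact orderOf_eq_prime (by rw [pow_two]; exact h2 g) hg⟩
  have h6 : IsKleinFour (Multiplicative (ZMod 2 × ZMod 2)) := inferInstance
  exact IsKleinFour.nonempty_mulEquiv

theorem three {A : Type*} [Group A] (h3 : Nat.card A = 3) : Nonempty (A ≃* Multiplicative (ZMod 3)) := by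
  have : Fact (Nat.Prime 3) := ⟨Nat.prime_three⟩
  have h1 : IsCyclic A := isCyclic_of_prime_card h3
  exact ⟨mulEquivOfCyclicCardEq (by rw [h3]; simp [Nat.card_eq_fintype_card])⟩

theorem main {K : Type} [Field K] [Fintype K] (hK : Fintype.card K = 4) :
    Cfsg.HasSchurMultiplier ↥(twistedE6 K 2) (Multiplicative (ZMod 3 × ZMod 2 × ZMod 2)) := by
  have hE := BM.HBFinal.card_E K hK
  have : Finite ↥(twistedE6 K 2) := Nat.finite_of_card_ne_zero (by rw [hE]; norm_num)
  have : Fact (Nat.Prime 2) := ⟨Nat.prime_two⟩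
  have hK2 : Fintype.card K = 2 ^ 2 := hK
  have hchar : CharP K 2 := charP_of_card_eq_prime_pow (f := 2) hK2
  obtain ⟨L₂, _, _, π₂, h2, h2c⟩ := TwESixCover.exists_cover K hK
  have hperf : commutator ↥(twistedE6 K 2) = ⊤ := h2.perf_base
  obtain ⟨L, _, _, π, h, hd⟩ := H59.ESixCover.exists_cover_E6 (K := K) Nat.prime_two.isPrimePow hK2 (by norm_num) hperf
  obtain ⟨L₃, _, _, π₃, h3, h3c⟩ := h.exists_prime Nat.prime_three hd
  have hel := (KFacts.Mult.TwESixTwo.ker K hK h2.perf h2.surj h2.cen (IsPGroup.of_card (n := 2) (by rw [h2c]; norm_num))).1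
  obtain ⟨e₂⟩ := klein h2c fun a => Subtype.ext (hel a a.2)
  obtain ⟨e₃⟩ := three h3c
  have key := SchurParts.hasSchurMultiplier_of_coprime hperf h3 h2 (by rw [h3c, h2c]; norm_num) (fun M _ _ ρ hρ => ?_)
    e₃ e₂
  · exact H487.HasSchurMultiplier.congr_right key (MulEquiv.prodMultiplicative (ZMod 3) (ZMod 2 × ZMod 2)).symm
  · rw [h3c, h2c, mul_comm]
    refine SchurParts.card_ker_dvd Nat.prime_two (fun L _ _ π hπ hP => ?_) (fun L _ _ π hπ hP => ?_) hρ
    · exact (KFacts.Mult.TwESixTwo.ker K hK hπ.perf hπ.surj hπ.cen hP).2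
    · exact H59.CrossTw.ker_E6 (p := 2) Nat.prime_two.isPrimePow hK2 hπ hP

/-- **The Schur multiplier of `²E₆(2)`.** -/
theorem result {K : Type*} [Field K] [Fintype K] (hK : Fintype.card K = 4) :
    Cfsg.HasSchurMultiplier ↥(twistedE6 K 2) (Multiplicative (ZMod 3 × ZMod 2 × ZMod 2)) := by
  obtain ⟨F, _, _, ⟨f⟩⟩ := H59.ESixField.exists_type K
  have hF : Fintype.card F = 4 := by rw [← hK]; exact (Fintype.card_congr f.toEquiv).symm
  exact H487.HasSchurMultiplier.congr_left (main hF) (H59.ESixField.equiv f.symm 2)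

end Cfsg.Agent.H66.TwESixMult
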